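/-
Decomposition of a Weyl group element sending a simple root to a simple root.
-/
import Groth.Agent.Lib.RootD.Transfer

set_option autoImplicit false

open RootPairing Set Function

namespace Groth.Agent.TitsDecH28

variable {ι R M N : Type*} [CommRing R] [CharZero R] [IsDomain R] [AddCommGroup M] [Module R M]
  [AddCommGroup N] [Module R N] {P : RootPairing ι R M N} [Finite ι] [P.IsCrystallographic]
  [P.IsReduced] (b : P.Base)

omit [CharZero R] [IsDomain R] [Finite ι] [P.IsCrystallographic] [P.IsReduced] in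
theorem exists_linear {g : P.Aut} (hg : g ∈ P.weylGroup) :
    ∃ L : M ≃ₗ[R] M, ∀ k, P.root (g • k) = L (P.root k) := by
  rw [RootDLib.weylGroup_eq_closure] at hg
  induction hg using Subgroup.closure_induction with
  | mem x hx =>
    obtain ⟨i, -, rfl⟩ := hx
    exact ⟨P.reflection i, fun k => by rw [RootDLib.refl_smul, root_reflectionPerm]⟩
  | one => exact ⟨LinearEquiv.refl R M, fun k => by simp⟩
  | mul x y _ _ hx hy =>
    obtain ⟨L, hL⟩ := hx
    obtain ⟨L', hL'⟩ := hy
    exact ⟨L'.trans L, fun k => by rw [mul_smul, hL, hL', LinearEquiv.trans_apply]⟩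
  | inv x _ hx =>
    obtain ⟨L, hL⟩ := hx
    exact ⟨L.symm, fun k => by rw [LinearEquiv.eq_symm_apply, ← hL, smul_inv_smul]⟩

omit [P.IsReduced] [IsDomain R] [Finite ι] [P.IsCrystallographic] in
theorem height_comb {i j k : ι} {p q : ℤ} (h : P.root k = p • P.root i + q • P.root j) :
    b.height k = p * b.height i + q * b.height j := by
  obtain ⟨f, -, -, hf⟩ := b.exists_root_eq_sum_int i
  obtain ⟨f', -, -, hf'⟩ := b.exists_root_eq_sum_int j
  have : P.root k = ∑ l ∈ b.support, (p * f l + q * f' l) • P.root l := by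
    rw [h, hf, hf', Finset.smul_sum, Finset.smul_sum, ← Finset.sum_add_distrib]
    simp [add_smul, mul_smul]
  rw [b.height_eq_sum this, b.height_eq_sum hf, b.height_eq_sum hf', Finset.mul_sum, Finset.mul_sum,
    ← Finset.sum_add_distrib]

omit [P.IsReduced] [IsDomain R] [Finite ι] [P.IsCrystallographic] in
theorem sameSign {α γ k : ι} (hα : α ∈ b.support) (hγ : γ ∈ b.support) (hne : α ≠ γ) {p q : ℤ}
    (h : P.root k = p • P.root α + q • P.root γ) : (0 ≤ p ∧ 0 ≤ q) ∨ (p ≤ 0 ∧ q ≤ 0) := by
  classical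
  obtain ⟨f, -, hsgn, hf⟩ := b.exists_root_eq_sum_int k
  let g : ι → ℤ := fun l => (if l = α then p else 0) + (if l = γ then q else 0)
  have hg : P.root k = ∑ l ∈ b.support, g l • P.root l := by
    rw [h]
    simp [g, add_smul, Finset.sum_add_distrib, ite_smul, hα, hγ]
  have hli : LinearIndepOn R P.root (b.support : Set ι) := b.linearIndepOn_root
  have heq : ∀ l ∈ b.support, f l = g l := by
    intro l hl
    have h0 : ∑ x ∈ b.support, ((f x - g x : ℤ) : R) • P.root x = 0 := by
      simp only [Int.cast_smul_eq_zsmul, sub_smul, Finset.sum_sub_distrib, ← hf, ← hg, sub_self]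
    have := linearIndepOn_finset_iff.1 hli (fun x => ((f x - g x : ℤ) : R)) h0 l hl
    exact sub_eq_zero.1 (Int.cast_eq_zero.1 this)
  have h1 : g α = p := by simp [g, hne]
  have h2 : g γ = q := by simp [g, hne.symm]
  rw [← h1, ← h2, ← heq α hα, ← heq γ hγ]
  rcases hsgn with hpos | hneg
  · exact Or.inl ⟨hpos.le α, hpos.le γ⟩
  · exact Or.inr ⟨hneg.le α, hneg.le γ⟩

/-- The inversion set of `w`. -/
noncomputable def invNum (w : P.Aut) : ℕ := {i : ι | b.IsPos i ∧ ¬ b.IsPos (w • i)}.ncard

omit [IsDomain R] [Finite ι] [P.IsCrystallographic] [P.IsReduced] in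
theorem isPos_smul_reflectionPerm_self {w : P.Aut} (hw : w ∈ P.weylGroup) {i : ι}
    (h : ¬ b.IsPos (w • i)) : b.IsPos (w • P.reflectionPerm i i) := by
  obtain ⟨L, hL⟩ := exists_linear hw
  have : P.root (w • P.reflectionPerm i i) = (-1 : ℤ) • P.root (w • i) + (0 : ℤ) • P.root (w • i) := by
    rw [hL, hL, root_reflectionPerm, reflection_apply_self, map_neg]
    simp
  have h' := height_comb b this
  rw [RootPairing.Base.isPos_iff'] at h
  rw [RootPairing.Base.isPos_iff]
  omega

omit [IsDomain R] [Finite ι] [P.IsCrystallographic] [P.IsReduced] in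
theorem not_isPos_reflectionPerm_self {i : ι} (h : b.IsPos i) : ¬ b.IsPos (P.reflectionPerm i i) := by
  have : P.root (P.reflectionPerm i i) = (-1 : ℤ) • P.root i + (0 : ℤ) • P.root i := by
    rw [root_reflectionPerm, reflection_apply_self]
    simp
  have h' := height_comb b this
  rw [RootPairing.Base.isPos_iff] at h ⊢
  omega

theorem invNum_mul_lt {w : P.Aut} (hw : w ∈ P.weylGroup) {γ : ι} (hγ : γ ∈ b.support)
    (hneg : ¬ b.IsPos (w • γ)) : invNum b (w * Equiv.reflection P γ) < invNum b w := by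
  have hγp : b.IsPos γ := RootPairing.Base.isPos_of_mem_support hγ
  have key : ∀ i, b.IsPos i → ¬ b.IsPos ((w * Equiv.reflection P γ) • i) →
      b.IsPos (P.reflectionPerm γ i) ∧ P.reflectionPerm γ i ≠ γ := by
    intro i hi hi'
    rw [mul_smul, RootDLib.refl_smul] at hi'
    have hne : i ≠ γ := by
      rintro rfl
      exact hi' (isPos_smul_reflectionPerm_self b hw hneg)
    refine ⟨hi.reflectionPerm hγ hne, fun e => ?_⟩
    have : i = P.reflectionPerm γ γ := by
      have := congrArg (P.reflectionPerm γ) e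
      rwa [P.reflectionPerm_self] at this
    exact not_isPos_reflectionPerm_self b hγp (this ▸ hi)
  unfold invNum
  rw [← Set.ncard_image_of_injective _ (P.reflectionPerm γ).injective]
  refine Set.ncard_lt_ncard ⟨?_, fun h => ?_⟩ (Set.toFinite _)
  · rintro _ ⟨i, ⟨hi, hi'⟩, rfl⟩
    refine ⟨(key i hi hi').1, ?_⟩
    rwa [mul_smul, RootDLib.refl_smul] at hi'
  · obtain ⟨i, ⟨hi, hi'⟩, e⟩ := h (show γ ∈ _ from ⟨hγp, hneg⟩)
    exact (key i hi hi').2 e

theorem exists_reduced {α γ : ι} (hα : α ∈ b.support) (hγ : γ ∈ b.support) :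
    ∀ (n : ℕ) (w : P.Aut), w ∈ P.weylGroup → invNum b w = n →
      ∃ v ∈ Subgroup.closure {Equiv.reflection P α, Equiv.reflection P γ},
        b.IsPos ((w * v⁻¹) • α) ∧ b.IsPos ((w * v⁻¹) • γ) ∧
          (v = 1 ∨ invNum b (w * v⁻¹) < invNum b w) := by
  intro n
  induction n using Nat.strong_induction_on with
  | _ n ih =>
    intro w hw hn
    by_cases h : b.IsPos (w • α) ∧ b.IsPos (w • γ)
    · exact ⟨1, one_mem _, by simpa using h.1, by simpa using h.2, Or.inl rfl⟩
    · obtain ⟨c, hc, hcs, hneg⟩ : ∃ c, c ∈ b.support ∧ (c = α ∨ c = γ) ∧ ¬ b.IsPos (w • c) := by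
        by_cases hα' : b.IsPos (w • α)
        · exact ⟨γ, hγ, Or.inr rfl, fun h' => h ⟨hα', h'⟩⟩
        · exact ⟨α, hα, Or.inl rfl, hα'⟩
      have hlt := invNum_mul_lt b hw hc hneg
      have hmem : w * Equiv.reflection P c ∈ P.weylGroup := by
        refine mul_mem hw ?_
        rw [RootDLib.weylGroup_eq_closure]
        exact Subgroup.subset_closure ⟨c, mem_univ _, rfl⟩
      obtain ⟨v, hv, h1, h2, h3⟩ := ih _ (hn ▸ hlt) _ hmem rfl
      have he : w * (v * Equiv.reflection P c)⁻¹ = w * Equiv.reflection P c * v⁻¹ := by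
        rw [mul_inv_rev, Equiv.reflection_inv, mul_assoc]
      refine ⟨v * Equiv.reflection P c, mul_mem hv (Subgroup.subset_closure ?_), he ▸ h1, he ▸ h2,
        Or.inr ?_⟩
      · rcases hcs with rfl | rfl <;> simp
      · rw [he]
        rcases h3 with rfl | h3
        · simpa using hlt
        · exact h3.trans hlt

omit [IsDomain R] [Finite ι] [P.IsReduced] in
theorem root_smul_sub_mem {α γ : ι} {v : P.Aut}
    (hv : v ∈ Subgroup.closure {Equiv.reflection P α, Equiv.reflection P γ}) (k : ι) :
    P.root (v • k) - P.root k ∈ Submodule.span ℤ {P.root α, P.root γ} := by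
  induction hv using Subgroup.closure_induction generalizing k with
  | mem x hx =>
    rcases hx with rfl | hx
    · rw [RootDLib.refl_smul, root_reflectionPerm, reflection_apply_root' ℤ, sub_sub_cancel_left]
      exact Submodule.neg_mem _ (Submodule.smul_mem _ _ (Submodule.subset_span (by simp)))
    · rw [mem_singleton_iff] at hx
      subst hx
      rw [RootDLib.refl_smul, root_reflectionPerm, reflection_apply_root' ℤ, sub_sub_cancel_left]
      exact Submodule.neg_mem _ (Submodule.smul_mem _ _ (Submodule.subset_span (by simp)))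
  | one => simp
  | mul x y _ _ hx hy =>
    rw [mul_smul, ← sub_add_sub_cancel _ (P.root (y • k))]
    exact Submodule.add_mem _ (hx _) (hy _)
  | inv x _ hx =>
    have := hx (x⁻¹ • k)
    rw [smul_inv_smul] at this
    rw [← neg_sub]
    exact Submodule.neg_mem _ this

theorem decomposition : ∀ (n : ℕ) (w : P.Aut) (α β : ι), w ∈ P.weylGroup → invNum b w = n →
    α ∈ b.support → β ∈ b.support → w • α = β →
    ∃ (m : ℕ) (a : Fin (m + 1) → ι) (ws : Fin m → P.Aut),
      (∀ i, a i ∈ b.support) ∧ a 0 = α ∧ a (Fin.last m) = β ∧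
      (∀ i, ws i ∈ P.weylGroup) ∧
      w = (List.ofFn fun i : Fin m => ws (Fin.rev i)).prod ∧
      (∀ i : Fin m, ws i • a (Fin.castSucc i) = a (Fin.succ i)) ∧
      ∀ i : Fin m, ∃ γ ∈ b.support,
        ws i ∈ Subgroup.closure {Equiv.reflection P (a (Fin.castSucc i)), Equiv.reflection P γ} ∧
        (a (Fin.castSucc i) ≠ a (Fin.succ i) → γ = a (Fin.succ i)) := by
  intro n
  induction n using Nat.strong_induction_on with
  | _ n ih =>
    intro w α β hw hn hα hβ hwα
    by_cases hw1 : w = 1
    · subst hw1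
      rw [one_smul] at hwα
      subst hwα
      exact ⟨0, fun _ => α, fun i => i.elim0, fun _ => hα, rfl, rfl, fun i => i.elim0, by simp,
        fun i => i.elim0, fun i => i.elim0⟩
    obtain ⟨γ, hγ, hneg⟩ : ∃ γ ∈ b.support, ¬ b.IsPos (w • γ) := by
      by_contra hc
      push Not at hc
      exact hw1 (RootDLib.eq_one_of_isPos b hw hc)
    have hne : α ≠ γ := by
      rintro rfl
      exact hneg (hwα ▸ RootPairing.Base.isPos_of_mem_support hβ)
    obtain ⟨v, hv, h1, h2, h3⟩ := exists_reduced b hα hγ _ w hw rfl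
    have hlt : invNum b (w * v⁻¹) < n := by
      rcases h3 with rfl | h3
      · exact absurd (by simpa using h2) hneg
      · exact hn ▸ h3
    have hvW : v ∈ P.weylGroup := by
      rw [RootDLib.weylGroup_eq_closure]
      refine Subgroup.closure_mono ?_ hv
      rintro x (rfl | rfl)
      · exact ⟨α, mem_univ _, rfl⟩
      · exact ⟨γ, mem_univ _, rfl⟩
    have hw' : w * v⁻¹ ∈ P.weylGroup := mul_mem hw (inv_mem hvW)
    have hδβ : (w * v⁻¹) • (v • α) = β := by rw [mul_smul, inv_smul_smul, hwα]
    -- `v • α` is a simple root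
    have hδ : v • α = α ∨ v • α = γ := by
      have hmem : P.root (v • α) ∈ Submodule.span ℤ {P.root α, P.root γ} := by
        have := Submodule.add_mem _ (root_smul_sub_mem hv α)
          (Submodule.subset_span (show P.root α ∈ ({P.root α, P.root γ} : Set M) by simp))
        rwa [sub_add_cancel] at this
      obtain ⟨p, q, hpq⟩ := Submodule.mem_span_pair.1 hmem
      obtain ⟨L, hL⟩ := exists_linear hw'
      have hβh : b.height β = p * b.height ((w * v⁻¹) • α) + q * b.height ((w * v⁻¹) • γ) := by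
        refine height_comb b ?_
        rw [← hδβ, hL, hL, hL, ← hpq, map_add, map_zsmul, map_zsmul]
      rw [RootPairing.Base.height_one_of_mem_support hβ] at hβh
      rw [RootPairing.Base.isPos_iff] at h1 h2
      rcases sameSign b hα hγ hne hpq.symm with ⟨hp, hq⟩ | ⟨hp, hq⟩
      · have hp' : p ≤ p * b.height ((w * v⁻¹) • α) := le_mul_of_one_le_right hp h1
        have hq' : q ≤ q * b.height ((w * v⁻¹) • γ) := le_mul_of_one_le_right hq h2
        rcases (show p = 1 ∧ q = 0 ∨ p = 0 ∧ q = 1 ∨ p = 0 ∧ q = 0 by omega) with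
          ⟨rfl, rfl⟩ | ⟨rfl, rfl⟩ | ⟨rfl, rfl⟩
        · exact Or.inl (P.root.injective (by rw [← hpq]; simp))
        · exact Or.inr (P.root.injective (by rw [← hpq]; simp))
        · simp at hβh
      · have hp' : p * b.height ((w * v⁻¹) • α) ≤ 0 := mul_nonpos_of_nonpos_of_nonneg hp h1.le
        have hq' : q * b.height ((w * v⁻¹) • γ) ≤ 0 := mul_nonpos_of_nonpos_of_nonneg hq h2.le
        omega
    have hδs : v • α ∈ b.support := by
      rcases hδ with e | e <;> rw [e] <;> assumption
    obtain ⟨m, a, ws, ha, ha0, halast, hwsW, hprod, hstep, hcl⟩ :=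
      ih _ hlt (w * v⁻¹) (v • α) β hw' rfl hδs hβ hδβ
    refine ⟨m + 1, Fin.cons α a, Fin.cons v ws, ?_, rfl, ?_, ?_, ?_, ?_, ?_⟩
    · exact fun i => Fin.cases (by simpa using hα) (fun j => by simpa using ha j) i
    · rw [← Fin.succ_last, Fin.cons_succ]; exact halast
    · exact fun i => Fin.cases (by simpa using hvW) (fun j => by simpa using hwsW j) i
    · rw [List.ofFn_succ', List.concat_eq_append, List.prod_append, List.prod_singleton]
      simp only [Fin.rev_last, Fin.cons_zero, Fin.rev_castSucc, Fin.cons_succ]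
      rw [← hprod, inv_mul_cancel_right]
    · intro i
      refine Fin.cases ?_ (fun j => ?_) i
      · simp [ha0]
      · simpa [← Fin.succ_castSucc] using hstep j
    · intro i
      refine Fin.cases ?_ (fun j => ?_) i
      · refine ⟨γ, hγ, by simpa using hv, ?_⟩
        intro hd
        simp only [Fin.castSucc_zero, Fin.cons_zero, Fin.cons_succ] at hd ⊢
        rw [ha0] at hd ⊢
        rcases hδ with e | e
        · exact absurd e.symm hd
        · exact e.symm
      · simpa [← Fin.succ_castSucc] using hcl j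

end Groth.Agent.TitsDecH28
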