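/-
The Weyl group of a reduced root pairing with base is a Coxeter group.
-/
import Groth.Agent.Lib.TitsDecH28.Basic
import Mathlib.GroupTheory.Coxeter.Basic

set_option autoImplicit false

open RootPairing Set Function

namespace Groth.Agent.TitsDecH28

section Dihedral

variable {H G : Type*} [Group H] [Group G]

/-- The dihedral group generated by two involutions has the standard presentation. -/
theorem dihedral_functional {a b : H} {a' b' : G} (ha : a * a = 1) (hb : b * b = 1) (ha1 : a ≠ 1)
    (hb1 : b ≠ 1) (ha' : a' * a' = 1) (hb' : b' * b' = 1)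
    (hm : (a' * b') ^ orderOf (a * b) = 1) {y : G}
    (hy : ((1 : H), y) ∈ Subgroup.closure ({(a, a'), (b, b')} : Set (H × G))) : y = 1 := by
  set A : H × G := (a, a') with hA
  set B : H × G := (b, b') with hB
  have hAA : A * A = 1 := Prod.ext ha ha'
  have hBB : B * B = 1 := Prod.ext hb hb'
  set R := A * B with hR
  have hconj : ∀ i : ℤ, A * R ^ i = R ^ (-i) * A := by
    intro i
    have hAinv : A⁻¹ = A := inv_eq_of_mul_eq_one_right hAA
    have hBinv : B⁻¹ = B := inv_eq_of_mul_eq_one_right hBB
    have h1 : A * R * A⁻¹ = R⁻¹ := by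
      rw [hR, ← mul_assoc, hAA, one_mul, mul_inv_rev, hAinv, hBinv]
    have h2 := conj_zpow (i := i) (a := A) (b := R)
    rw [h1, inv_zpow'] at h2
    rw [h2, inv_mul_cancel_right]
  have hform : ∀ x ∈ Subgroup.closure ({A, B} : Set (H × G)), ∃ i : ℤ, x = R ^ i ∨ x = R ^ i * A := by
    intro x hx
    have hinvmem : ∀ z ∈ ({A, B} : Set (H × G)), ∃ i : ℤ, z = R ^ i ∨ z = R ^ i * A := by
      rintro z (rfl | rfl)
      · exact ⟨0, Or.inr (by simp)⟩
      · refine ⟨-1, Or.inr ?_⟩
        rw [← hconj, zpow_one, hR, ← mul_assoc, hAA, one_mul]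
    induction hx using Subgroup.closure_induction'' with
    | one => exact ⟨0, Or.inl (by simp)⟩
    | mem z hz => exact hinvmem z hz
    | inv_mem z hz =>
      have : z⁻¹ = z := by
        rcases hz with rfl | rfl
        · exact inv_eq_of_mul_eq_one_right hAA
        · exact inv_eq_of_mul_eq_one_right hBB
      rw [this]; exact hinvmem z hz
    | mul x y _ _ hx hy =>
      obtain ⟨i, rfl | rfl⟩ := hx <;> obtain ⟨j, rfl | rfl⟩ := hy
      · exact ⟨i + j, Or.inl (zpow_add R i j).symm⟩
      · exact ⟨i + j, Or.inr (by rw [← mul_assoc, zpow_add])⟩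
      · exact ⟨i + -j, Or.inr (by rw [mul_assoc, hconj, ← mul_assoc, zpow_add])⟩
      · refine ⟨i + -j, Or.inl ?_⟩
        rw [mul_assoc, ← mul_assoc A, hconj, mul_assoc, hAA, mul_one, zpow_add]
  obtain ⟨i, h | h⟩ := hform _ hy
  · have h1 : (a * b) ^ i = 1 := (congrArg Prod.fst h).symm
    obtain ⟨t, ht⟩ := orderOf_dvd_iff_zpow_eq_one.2 h1
    have h2 : y = (a' * b') ^ i := congrArg Prod.snd h
    rw [h2, ht, zpow_mul, zpow_natCast, hm, one_zpow]
  · exfalso
    have h1 : (a * b) ^ i * a = 1 := (congrArg Prod.fst h).symm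
    have h2 : (a * b) ^ i = a := by
      rw [← mul_one ((a * b) ^ i), ← ha, ← mul_assoc, h1, one_mul]
    have hcomm : a * (a * b) = (a * b) * a := by
      have := (Commute.zpow_self (a * b) i).eq
      rwa [h2] at this
    have hr2 : (a * b) * (a * b) = 1 := by
      rw [← mul_assoc, ← hcomm, ← mul_assoc a a b, ha, one_mul, hb]
    rcases Int.even_or_odd' i with ⟨t, rfl | rfl⟩
    · rw [zpow_mul, zpow_two, hr2, one_zpow] at h2
      exact ha1 h2.symm
    · rw [zpow_add, zpow_mul, zpow_two, hr2, one_zpow, one_mul, zpow_one] at h2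
      exact hb1 (mul_eq_left.1 h2)

end Dihedral

variable {ι R M N : Type*} [CommRing R] [CharZero R] [IsDomain R] [AddCommGroup M] [Module R M]
  [AddCommGroup N] [Module R N] {P : RootPairing ι R M N} [Finite ι] [P.IsCrystallographic]
  [P.IsReduced] (b : P.Base)

omit [P.IsReduced] [IsDomain R] [Finite ι] [P.IsCrystallographic] in
theorem isPos_of_coeff {α γ δ k : ι} (hα : α ∈ b.support) (hγ : γ ∈ b.support) (hδ : δ ∈ b.support)
    (h1 : δ ≠ α) (h2 : δ ≠ γ) {p q : ℤ}
    (h : P.root k = P.root δ + p • P.root α + q • P.root γ) : b.IsPos k := by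
  classical
  obtain ⟨f, -, hsgn, hf⟩ := b.exists_root_eq_sum_int k
  let g : ι → ℤ := fun l => (if l = δ then 1 else 0) + (if l = α then p else 0) + (if l = γ then q else 0)
  have hg : P.root k = ∑ l ∈ b.support, g l • P.root l := by
    rw [h]
    simp [g, add_smul, Finset.sum_add_distrib, ite_smul, hα, hγ, hδ]
  have hli : LinearIndepOn R P.root (b.support : Set ι) := b.linearIndepOn_root
  have h0 : ∑ x ∈ b.support, ((f x - g x : ℤ) : R) • P.root x = 0 := by
    simp only [Int.cast_smul_eq_zsmul, sub_smul, Finset.sum_sub_distrib, ← hf, ← hg, sub_self]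
  have := linearIndepOn_finset_iff.1 hli (fun x => ((f x - g x : ℤ) : R)) h0 δ hδ
  have hfδ : f δ = 1 := by
    rw [sub_eq_zero.1 (Int.cast_eq_zero.1 this)]
    simp [g, h1, h2]
  have hpos : 0 < f := hsgn.resolve_right fun hn => by
    have := hn.le δ
    simp [hfδ] at this
  rw [RootPairing.Base.isPos_iff', b.height_eq_sum hf]
  exact Finset.sum_nonneg fun l _ => hpos.le l

/-- The Coxeter matrix of the simple reflections. -/
noncomputable def coxMat : CoxeterMatrix ↥b.support where
  M := Matrix.of fun j k => orderOf (Equiv.reflection P (j : ι) * Equiv.reflection P (k : ι))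
  isSymm := Matrix.IsSymm.ext fun j k => by
    simp only [Matrix.of_apply]
    rw [← orderOf_inv, mul_inv_rev, Equiv.reflection_inv, Equiv.reflection_inv]
  diagonal j := by
    rw [Matrix.of_apply, RootDLib.refl_mul_self, orderOf_one]
  off_diagonal j k hjk := by
    simp only [Matrix.of_apply, ne_eq, orderOf_eq_one_iff]
    intro h
    rw [mul_eq_one_iff_eq_inv, Equiv.reflection_inv] at h
    have h' := congrArg (fun x : P.Aut => x • (j : ι)) h
    simp only [RootDLib.refl_smul] at h'
    have hj := RootPairing.Base.isPos_of_mem_support j.2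
    exact not_isPos_reflectionPerm_self b hj
      (h' ▸ hj.reflectionPerm k.2 (fun e => hjk (Subtype.ext e)))

/-- The tautological Coxeter system on the abstract Coxeter group. -/
noncomputable def cs0 : CoxeterSystem (coxMat b) (coxMat b).Group := (coxMat b).toCoxeterSystem

/-- The abstract simple reflection. -/
noncomputable def gg (j : ↥b.support) : (coxMat b).Group := (cs0 b).simple j

theorem gg_mul_self (j : ↥b.support) : gg b j * gg b j = 1 := (cs0 b).simple_mul_simple_self j

theorem gg_pow (j k : ↥b.support) :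
    (gg b j * gg b k) ^ orderOf (Equiv.reflection P (j : ι) * Equiv.reflection P (k : ι)) = 1 :=
  (cs0 b).simple_mul_simple_pow j k

omit [CharZero R] [IsDomain R] [Finite ι] [P.IsCrystallographic] [P.IsReduced] in
theorem refl_mem_weyl (i : ι) : Equiv.reflection P i ∈ P.weylGroup := by
  rw [RootDLib.weylGroup_eq_closure]
  exact Subgroup.subset_closure ⟨i, mem_univ _, rfl⟩

/-- The map from the abstract Coxeter group to the automorphisms. -/
noncomputable def toAut : (coxMat b).Group →* P.Aut :=
  (cs0 b).lift ⟨fun j => Equiv.reflection P (j : ι), fun j k => pow_orderOf_eq_one _⟩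

theorem toAut_gg (j : ↥b.support) : toAut b (gg b j) = Equiv.reflection P (j : ι) :=
  (cs0 b).lift_apply_simple _ j

/-- Elements of the abstract group given by descending words. -/
inductive Desc : P.Aut → (coxMat b).Group → Prop
  | one : Desc 1 1
  | step {w : P.Aut} {g : (coxMat b).Group} (j : ↥b.support) (hneg : ¬ b.IsPos (w • (j : ι)))
      (h : Desc (w * Equiv.reflection P (j : ι)) g) : Desc w (g * gg b j)

omit [CharZero R] [IsDomain R] [Finite ι] [P.IsCrystallographic] [P.IsReduced] in
theorem mul_refl_refl (w : P.Aut) (i : ι) : w * Equiv.reflection P i * Equiv.reflection P i = w := by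
  rw [mul_assoc, RootDLib.refl_mul_self, mul_one]

theorem exists_desc : ∀ (n : ℕ) (w : P.Aut), w ∈ P.weylGroup → invNum b w = n → ∃ g, Desc b w g := by
  intro n
  induction n using Nat.strong_induction_on with
  | _ n ih =>
    intro w hw hn
    by_cases hw1 : w = 1
    · exact ⟨1, hw1 ▸ Desc.one⟩
    obtain ⟨γ, hγ, hneg⟩ : ∃ γ ∈ b.support, ¬ b.IsPos (w • γ) := by
      by_contra hc
      push Not at hc
      exact hw1 (RootDLib.eq_one_of_isPos b hw hc)
    obtain ⟨g, hg⟩ := ih _ (hn ▸ invNum_mul_lt b hw hγ hneg) _ (mul_mem hw (refl_mem_weyl γ)) rfl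
    exact ⟨_, Desc.step ⟨γ, hγ⟩ hneg hg⟩

omit [IsDomain R] in
theorem exists_neg_in_pair {w u : P.Aut} {α γ : ι} (hw : w ∈ P.weylGroup) (hα : α ∈ b.support)
    (hγ : γ ∈ b.support) (hne : α ≠ γ) (h1 : b.IsPos (w • α)) (h2 : b.IsPos (w • γ))
    (hu : u ∈ Subgroup.closure {Equiv.reflection P α, Equiv.reflection P γ}) (hu1 : u ≠ 1)
    [IsDomain R] : ¬ b.IsPos ((w * u) • α) ∨ ¬ b.IsPos ((w * u) • γ) := by
  have huW : u ∈ P.weylGroup := by
    refine (Subgroup.closure_le _).2 ?_ hu
    rintro x (rfl | rfl) <;> exact refl_mem_weyl _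
  obtain ⟨δ, hδ, hneg⟩ : ∃ δ ∈ b.support, ¬ b.IsPos (u • δ) := by
    by_contra hc
    push Not at hc
    exact hu1 (RootDLib.eq_one_of_isPos b huW hc)
  obtain ⟨p, q, hpq⟩ := Submodule.mem_span_pair.1 (root_smul_sub_mem hu δ)
  have hcase : δ = α ∨ δ = γ := by
    by_contra hc
    push Not at hc
    exact hneg (isPos_of_coeff b hα hγ hδ hc.1 hc.2 (p := p) (q := q) (by rw [add_assoc, hpq]; abel))
  have key : ¬ b.IsPos ((w * u) • δ) := by
    obtain ⟨p', q', hpq'⟩ : ∃ p' q' : ℤ, P.root (u • δ) = p' • P.root α + q' • P.root γ := by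
      have hpq'' : P.root (u • δ) = p • P.root α + q • P.root γ + P.root δ := by rw [hpq]; abel
      rcases hcase with rfl | rfl
      · exact ⟨p + 1, q, by rw [hpq'', add_smul, one_smul]; abel⟩
      · exact ⟨p, q + 1, by rw [hpq'', add_smul, one_smul]; abel⟩
    obtain ⟨L, hL⟩ := exists_linear hw
    have hh : b.height ((w * u) • δ) = p' * b.height (w • α) + q' * b.height (w • γ) := by
      refine height_comb b ?_
      rw [mul_smul, hL, hL, hL, hpq', map_add, map_zsmul, map_zsmul]
    have hu' : b.height (u • δ) = p' * b.height α + q' * b.height γ := height_comb b hpq'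
    rw [RootPairing.Base.height_one_of_mem_support hα, RootPairing.Base.height_one_of_mem_support hγ] at hu'
    rw [RootPairing.Base.isPos_iff] at h1 h2 hneg ⊢
    have := b.height_ne_zero (u • δ)
    rcases sameSign b hα hγ hne hpq' with ⟨hp, hq⟩ | ⟨hp, hq⟩
    · omega
    · have hp' := mul_nonpos_of_nonpos_of_nonneg hp h1.le
      have hq' := mul_nonpos_of_nonpos_of_nonneg hq h2.le
      omega
  rcases hcase with rfl | rfl
  · exact Or.inl key
  · exact Or.inr key

/-- The graph of the dihedral lift. -/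
noncomputable def dih (j k : ↥b.support) : Subgroup (P.Aut × (coxMat b).Group) :=
  Subgroup.closure {(Equiv.reflection P (j : ι), gg b j), (Equiv.reflection P (k : ι), gg b k)}

omit [IsDomain R] [Finite ι] [P.IsCrystallographic] [P.IsReduced] in
theorem refl_ne_one {i : ι} (hi : i ∈ b.support) : Equiv.reflection P i ≠ 1 := by
  intro h
  have hp := RootPairing.Base.isPos_of_mem_support hi
  apply not_isPos_reflectionPerm_self b hp
  rwa [← RootDLib.refl_smul, h, one_smul]

theorem fst_mem_of_mem_dih {j k : ↥b.support} {x : P.Aut × (coxMat b).Group} (hx : x ∈ dih b j k) :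
    x.1 ∈ Subgroup.closure {Equiv.reflection P (j : ι), Equiv.reflection P (k : ι)} := by
  have := Subgroup.mem_map_of_mem (MonoidHom.fst _ _) hx
  rw [dih, MonoidHom.map_closure, Set.image_pair] at this
  exact this

theorem desc_dih (j k : ↥b.support) (hjk : (j : ι) ≠ (k : ι)) {w : P.Aut} (hw : w ∈ P.weylGroup)
    (h1 : b.IsPos (w • (j : ι))) (h2 : b.IsPos (w • (k : ι))) {g : (coxMat b).Group}
    (hg : Desc b w g) :
    ∀ (n : ℕ) (u : P.Aut) (y : (coxMat b).Group), (u, y) ∈ dih b j k → invNum b (w * u) = n →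
      Desc b (w * u) (g * y) := by
  intro n
  induction n using Nat.strong_induction_on with
  | _ n ih =>
    intro u y hy hn
    by_cases hu1 : u = 1
    · subst hu1
      have := dihedral_functional (RootDLib.refl_mul_self _) (RootDLib.refl_mul_self _)
        (refl_ne_one b j.2) (refl_ne_one b k.2) (gg_mul_self b j) (gg_mul_self b k) (gg_pow b j k) hy
      subst this
      simpa using hg
    have hwu : w * u ∈ P.weylGroup := by
      refine mul_mem hw ((Subgroup.closure_le _).2 ?_ (fst_mem_of_mem_dih b hy))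
      rintro x (rfl | rfl) <;> exact refl_mem_weyl _
    obtain ⟨c, hcm, hneg⟩ : ∃ c : ↥b.support,
        (Equiv.reflection P (c : ι), gg b c) ∈ dih b j k ∧ ¬ b.IsPos ((w * u) • (c : ι)) := by
      rcases exists_neg_in_pair b hw j.2 k.2 hjk h1 h2 (fst_mem_of_mem_dih b hy) hu1 with h | h
      · exact ⟨j, Subgroup.subset_closure (by simp), h⟩
      · exact ⟨k, Subgroup.subset_closure (by simp), h⟩
    have := ih _ (hn ▸ invNum_mul_lt b hwu c.2 hneg) (u * Equiv.reflection P (c : ι)) (y * gg b c)
      (mul_mem hy hcm) (by rw [mul_assoc])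
    rw [← mul_assoc] at this
    have h' := Desc.step c hneg this
    rwa [mul_assoc g, mul_assoc, gg_mul_self, mul_one] at h'

theorem desc_functional : ∀ (n : ℕ) (w : P.Aut), w ∈ P.weylGroup → invNum b w = n →
    ∀ g g', Desc b w g → Desc b w g' → g = g' := by
  intro n
  induction n using Nat.strong_induction_on with
  | _ n ih =>
    intro w hw hn g g' hg hg'
    have hpos1 : ∀ j : ↥b.support, b.IsPos ((1 : P.Aut) • (j : ι)) := fun j => by
      rw [one_smul]; exact RootPairing.Base.isPos_of_mem_support j.2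
    cases hg with
    | one => cases hg' with
      | one => rfl
      | step k hk _ => exact absurd (hpos1 k) hk
    | @step _ g₁ j hj h₁ => cases hg' with
      | one => exact absurd (hpos1 j) hj
      | @step _ g₂ k hk h₂ =>
        have hlt := invNum_mul_lt b hw j.2 hj
        have hlt' := invNum_mul_lt b hw k.2 hk
        by_cases hjk : (j : ι) = (k : ι)
        · obtain rfl : j = k := Subtype.ext hjk
          rw [ih _ (hn ▸ hlt) _ (mul_mem hw (refl_mem_weyl _)) rfl _ _ h₁ h₂]
        obtain ⟨v, hv, p1, p2, -⟩ := exists_reduced b j.2 k.2 _ w hw rfl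
        obtain ⟨y, hy⟩ : ∃ y, (v, y) ∈ dih b j k := by
          have : v ∈ (dih b j k).map (MonoidHom.fst _ _) := by
            rw [dih, MonoidHom.map_closure, Set.image_pair]
            exact hv
          obtain ⟨x, hx, rfl⟩ := this
          exact ⟨x.2, hx⟩
        have hw' : w * v⁻¹ ∈ P.weylGroup := by
          refine mul_mem hw (inv_mem ((Subgroup.closure_le _).2 ?_ hv))
          rintro x (rfl | rfl) <;> exact refl_mem_weyl _
        obtain ⟨g₀, hg₀⟩ := exists_desc b _ _ hw' rfl
        have key : ∀ c : ↥b.support, (Equiv.reflection P (c : ι), gg b c) ∈ dih b j k →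
            invNum b (w * Equiv.reflection P (c : ι)) < n →
            ∀ g₁, Desc b (w * Equiv.reflection P (c : ι)) g₁ → g₁ * gg b c = g₀ * y := by
          intro c hc hlt g₁ h₁
          have hd := desc_dih b j k hjk hw' p1 p2 hg₀ _ (v * Equiv.reflection P (c : ι)) (y * gg b c)
            (mul_mem hy hc) rfl
          rw [← mul_assoc, inv_mul_cancel_right] at hd
          rw [ih _ hlt _ (mul_mem hw (refl_mem_weyl _)) rfl _ _ h₁ hd, mul_assoc g₀, mul_assoc y,
            gg_mul_self, mul_one]
        rw [key j (Subgroup.subset_closure (by simp)) (hn ▸ hlt) g₁ h₁,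
          key k (Subgroup.subset_closure (by simp)) (hn ▸ hlt') g₂ h₂]

theorem desc_mul {w : P.Aut} (hw : w ∈ P.weylGroup) {g : (coxMat b).Group} (hg : Desc b w g)
    (j : ↥b.support) : Desc b (w * Equiv.reflection P (j : ι)) (g * gg b j) := by
  have hw' := mul_mem hw (refl_mem_weyl (P := P) (j : ι))
  by_cases h : b.IsPos (w • (j : ι))
  · refine Desc.step j ?_ (by rwa [mul_refl_refl])
    rw [mul_smul, RootDLib.refl_smul]
    intro h'
    obtain ⟨L, hL⟩ := exists_linear hw
    have e : P.root (w • P.reflectionPerm (j : ι) (j : ι)) =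
        (-1 : ℤ) • P.root (w • (j : ι)) + (0 : ℤ) • P.root (w • (j : ι)) := by
      rw [hL, hL, root_reflectionPerm, reflection_apply_self, map_neg]
      simp
    have := height_comb b e
    rw [RootPairing.Base.isPos_iff] at h h'
    omega
  · obtain ⟨g', hg'⟩ := exists_desc b _ _ hw' rfl
    have := desc_functional b _ w hw rfl _ _ hg (Desc.step j h hg')
    rw [this, mul_assoc, gg_mul_self, mul_one]
    exact hg'

theorem desc_toAut (g : (coxMat b).Group) : toAut b g ∈ P.weylGroup ∧ Desc b (toAut b g) g := by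
  induction g using (cs0 b).simple_induction_right with
  | one => rw [map_one]; exact ⟨one_mem _, Desc.one⟩
  | mul_simple_right x j hx =>
    change toAut b (x * gg b j) ∈ _ ∧ Desc b (toAut b (x * gg b j)) (x * gg b j)
    rw [map_mul, toAut_gg]
    exact ⟨mul_mem hx.1 (refl_mem_weyl _), desc_mul b hx.1 hx.2 j⟩

theorem toAut_injective : Injective (toAut b) := fun g g' h =>
  desc_functional b _ _ (desc_toAut b g).1 rfl _ _ (desc_toAut b g).2 (h ▸ (desc_toAut b g').2)

/-- The Coxeter system of the Weyl group. -/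
theorem exists_coxeterSystem :
    ∃ (C : CoxeterMatrix ↥b.support) (cs : CoxeterSystem C P.weylGroup),
      (∀ j : ↥b.support, ((cs.simple j : P.weylGroup) : P.Aut) = Equiv.reflection P (j : ι)) ∧
      ∀ j k : ↥b.support, C.M j k = orderOf (Equiv.reflection P (j : ι) * Equiv.reflection P (k : ι)) := by
  let f : (coxMat b).Group →* P.weylGroup := (toAut b).codRestrict _ fun g => (desc_toAut b g).1
  have hinj : Injective f := fun g g' h => toAut_injective b (congrArg Subtype.val h)
  have hsurj : Surjective f := by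
    rintro ⟨w, hw⟩
    have hle : P.weylGroup ≤ (toAut b).range := by
      rw [← RootDLib.weylGroup_eq_closure_simple b, Subgroup.closure_le]
      rintro _ ⟨i, hi, rfl⟩
      exact ⟨gg b ⟨i, hi⟩, toAut_gg b ⟨i, hi⟩⟩
    obtain ⟨g, hg⟩ := hle hw
    exact ⟨g, Subtype.ext hg⟩
  let e := MulEquiv.ofBijective f ⟨hinj, hsurj⟩
  exact ⟨coxMat b, ⟨e.symm⟩, fun j => toAut_gg b j, fun j k => rfl⟩

end Groth.Agent.TitsDecH28
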